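import Mathlib
import Cfsg.Prelude.Def_GeometricClasses
import Cfsg.Prelude.Def_LieClassical
import Cfsg.Agent.Lib.Helper16.PGLr5

/-!
# Project U82 (statement S5982): definitions

`PSL_n(q)`, `q = q₀ ^ 2`, `H` = similarities of a unitary form; elements of prime order `r`.
-/

set_option autoImplicit false

namespace Cfsg.Agent.Lib.Helper16.U82

open Matrix
open scoped MatrixGroups

variable {F : Type*} [Field F] {n : ℕ}

/-- the `q₀`-conjugate inverse transpose `A ↦ ((A^(q₀))ᵀ)⁻¹`; its fixed points in `GL_n` form `GU_n(q₀)` -/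
noncomputable def ustar (q₀ : ℕ) (A : Matrix (Fin n) (Fin n) F) : Matrix (Fin n) (Fin n) F :=
  ((A.map (fun a : F => a ^ q₀))ᵀ)⁻¹

/-- `x` is conjugate into the similarity group of `f` by an element of `GL_n` -/
def ConjInGL (f : (Fin n → F) → (Fin n → F) → F) (x : GL (Fin n) F) : Prop :=
  ∃ g : GL (Fin n) F, g⁻¹ * x * g ∈ Cfsg.Geo.similarityGroup f

/-- `x` is conjugate into the similarity group of `f` by an element of determinant `1` -/
def ConjIn (f : (Fin n → F) → (Fin n → F) → F) (x : GL (Fin n) F) : Prop :=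
  ∃ g ∈ Cfsg.Geo.specialLinear (Fin n) F, g⁻¹ * x * g ∈ Cfsg.Geo.similarityGroup f

theorem conjInGL_of_conjIn {f : (Fin n → F) → (Fin n → F) → F} {x : GL (Fin n) F}
    (h : ConjIn f x) : ConjInGL f x := by
  obtain ⟨g, _, hg⟩ := h
  exact ⟨g, hg⟩

end Cfsg.Agent.Lib.Helper16.U82
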